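import Groth.Prelude.Def_SheafNL
import Groth.Agent.NLPerfLib.Basic
import Groth.Agent.NLBCLib.Main

/-!
# The kernel of the base change map of first cotangent homology of complete intersections
-/

set_option autoImplicit false
set_option backward.isDefEq.respectTransparency.types false
set_option maxHeartbeats 1000000

universe u

open TensorProduct Algebra

noncomputable section

namespace NLKerLib

section Change

variable {R S : Type u} [CommRing R] [CommRing S] [Algebra R S] {E F : Extension.{u} R S}

theorem split (φ : E.Hom F) (ψ : F.Hom E) (z : E.Cotangent) :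
    Extension.Cotangent.map ψ (Extension.Cotangent.map φ z) +
      (Extension.Hom.id E).sub (ψ.comp φ) (E.cotangentComplex z) = z := by
  have h := LinearMap.congr_fun (Extension.Cotangent.map_sub_map (Extension.Hom.id E) (ψ.comp φ)) z
  simp only [LinearMap.sub_apply, LinearMap.comp_apply, Extension.Cotangent.map_id,
    Extension.Cotangent.map_comp, LinearMap.id_apply, LinearMap.restrictScalars_apply] at h
  exact (sub_eq_iff_eq_add'.1 h).symm

/-- The conormal module of one presentation is a summand of that of any other, plus differentials. -/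
theorem finite_projective_of (φ : E.Hom F) (ψ : F.Hom E) [Module.Finite S F.Cotangent] [Module.Projective S F.Cotangent]
    [Module.Finite S E.CotangentSpace] [Module.Projective S E.CotangentSpace] :
    Module.Finite S E.Cotangent ∧ Module.Projective S E.Cotangent := by
  let j : E.Cotangent →ₗ[S] F.Cotangent × E.CotangentSpace := (Extension.Cotangent.map φ).prod E.cotangentComplex
  let p : F.Cotangent × E.CotangentSpace →ₗ[S] E.Cotangent :=
    (Extension.Cotangent.map ψ).coprod ((Extension.Hom.id E).sub (ψ.comp φ))
  have hp : p ∘ₗ j = LinearMap.id := LinearMap.ext (split φ ψ)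
  exact ⟨Module.Finite.of_surjective p fun z => ⟨j z, LinearMap.congr_fun hp z⟩,
    Module.Projective.of_split j p hp⟩

end Change

variable {A B : Type u} [CommRing A] [CommRing B] [Algebra A B]

/-- The presentation of a complete intersection. -/
theorem exists_generators (h : LCI.IsLCI A B) : ∃ (n : ℕ) (G : Generators A B (ULift.{u} (Fin n))),
    Module.Finite B G.toExtension.Cotangent ∧ Module.Projective B G.toExtension.Cotangent := by
  obtain ⟨-, n, f, hf, hk⟩ := h
  let val : ULift.{u} (Fin n) → B := fun i => f (MvPolynomial.X i.down)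
  let r : MvPolynomial (ULift.{u} (Fin n)) A ≃ₐ[A] MvPolynomial (Fin n) A := MvPolynomial.renameEquiv A Equiv.ulift
  have hval : MvPolynomial.aeval val = f.comp r.toAlgHom :=
    MvPolynomial.algHom_ext fun i => by simp [val, r]
  let G : Generators A B (ULift.{u} (Fin n)) :=
    Generators.ofSurjective val (by rw [hval]; exact hf.comp r.surjective)
  refine ⟨n, G, NLPerfLib.projective_cotangent G.toExtension ?_⟩
  have hker : G.toExtension.ker = (RingHom.ker f.toRingHom).comap (r.toRingEquiv.toRingHom) := by
    ext x
    change algebraMap G.toExtension.Ring B x = 0 ↔ f (r x) = 0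
    rw [show algebraMap G.toExtension.Ring B x = f (r x) from congr($hval x)]
  rw [hker]
  rw [show (RingHom.ker f.toRingHom).comap r.toRingEquiv.toRingHom =
    (RingHom.ker f.toRingHom).map r.symm.toRingEquiv.toRingHom from (Ideal.map_symm r.toRingEquiv).symm]
  rw [← KRLib.locKR_iff] at hk ⊢
  exact hk.map_bijective _ r.symm.bijective

variable {A' B' : Type u} [CommRing A'] [CommRing B'] [Algebra A' B'] [Algebra A A'] [Algebra B B'] [Algebra A B']
  [IsScalarTower A A' B'] [IsScalarTower A B B']

theorem lift_eq {P : Extension.{u} A B} {P' : Extension.{u} A' B'} (f g : P.Hom P') (x : B' ⊗[B] P.Cotangent)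
    (hx : P.cotangentComplex.baseChange B' x = 0) :
    (Extension.Cotangent.map f).liftBaseChange B' x = (Extension.Cotangent.map g).liftBaseChange B' x := by
  have key : (Extension.Cotangent.map f).liftBaseChange B' - (Extension.Cotangent.map g).liftBaseChange B' =
      (f.sub g).liftBaseChange B' ∘ₗ P.cotangentComplex.baseChange B' := by
    refine TensorProduct.AlgebraTensorModule.ext fun t z => ?_
    change t • Extension.Cotangent.map f z - t • Extension.Cotangent.map g z = t • (f.sub g) (P.cotangentComplex z)
    rw [← smul_sub, ← LinearMap.sub_apply, Extension.Cotangent.map_sub_map]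
    rfl
  have h := LinearMap.congr_fun key x
  rw [LinearMap.sub_apply, LinearMap.comp_apply, hx, map_zero] at h
  exact sub_eq_zero.1 h

theorem baseChange_eq {P Q : Extension.{u} A B} (φ : P.Hom Q) (ψ : Q.Hom P) (x : B' ⊗[B] P.Cotangent)
    (hx : P.cotangentComplex.baseChange B' x = 0) :
    (Extension.Cotangent.map ψ).baseChange B' ((Extension.Cotangent.map φ).baseChange B' x) = x := by
  have key : (Extension.Cotangent.map ψ).baseChange B' ∘ₗ (Extension.Cotangent.map φ).baseChange B' +
      (((Extension.Hom.id P).sub (ψ.comp φ)).baseChange B') ∘ₗ P.cotangentComplex.baseChange B' = LinearMap.id := by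
    rw [← LinearMap.baseChange_comp, ← LinearMap.baseChange_comp, ← LinearMap.baseChange_add,
      show Extension.Cotangent.map ψ ∘ₗ Extension.Cotangent.map φ +
        (Extension.Hom.id P).sub (ψ.comp φ) ∘ₗ P.cotangentComplex = LinearMap.id from LinearMap.ext (split φ ψ),
      LinearMap.baseChange_id]
  have h := LinearMap.congr_fun key x
  rwa [LinearMap.add_apply, LinearMap.comp_apply, LinearMap.comp_apply, hx, map_zero, add_zero] at h

theorem comm_baseChange {P Q : Extension.{u} A B} (φ : P.Hom Q) (x : B' ⊗[B] P.Cotangent) :
    Q.cotangentComplex.baseChange B' ((Extension.Cotangent.map φ).baseChange B' x) =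
      (Extension.CotangentSpace.map φ).baseChange B' (P.cotangentComplex.baseChange B' x) := by
  rw [← LinearMap.comp_apply, ← LinearMap.comp_apply, ← LinearMap.baseChange_comp, ← LinearMap.baseChange_comp]
  congr 2
  exact LinearMap.ext fun z => (Extension.CotangentSpace.map_cotangentComplex φ z).symm

theorem lift_baseChange {P Q : Extension.{u} A B} {P' : Extension.{u} A' B'} (φ : P.Hom Q) (f : Q.Hom P')
    (x : B' ⊗[B] P.Cotangent) :
    (Extension.Cotangent.map f).liftBaseChange B' ((Extension.Cotangent.map φ).baseChange B' x) =
      (Extension.Cotangent.map (f.comp φ)).liftBaseChange B' x := by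
  induction x with
  | zero => simp
  | add a b ha hb => simp only [map_add, ha, hb]
  | tmul t z => simp [Extension.Cotangent.map_comp]

theorem map_lift {P : Extension.{u} A B} {P' Q' : Extension.{u} A' B'} (f : P.Hom P') (η : P'.Hom Q')
    (x : B' ⊗[B] P.Cotangent) :
    Extension.Cotangent.map η ((Extension.Cotangent.map f).liftBaseChange B' x) =
      (Extension.Cotangent.map (η.comp f)).liftBaseChange B' x := by
  induction x with
  | zero => simp
  | add a b ha hb => simp only [map_add, ha, hb]
  | tmul t z => simp [Extension.Cotangent.map_comp]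

variable [Algebra.IsPushout A A' B B']

theorem main (hB : LCI.IsLCI A B) (hB' : LCI.IsLCI A' B') :
    Module.Finite B' (LinearMap.ker (NLCx.bcH1Map
        ((Algebra.Generators.self A B).defaultHom (Algebra.Generators.self A' B')).toExtensionHom)) ∧
      Module.Projective B' (LinearMap.ker (NLCx.bcH1Map
        ((Algebra.Generators.self A B).defaultHom (Algebra.Generators.self A' B')).toExtensionHom)) := by
  obtain ⟨n, G, _, _⟩ := exists_generators hB
  obtain ⟨m, H, _, _⟩ := exists_generators hB'
  let G' : Generators A' B' (ULift.{u} (Fin n)) := Generators.ofSurjective (fun i => algebraMap B B' (G.val i)) fun y => by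
    obtain ⟨w, rfl⟩ := (Algebra.IsPushout.equiv A A' B B').surjective y
    induction w with
    | zero => exact ⟨0, by simp⟩
    | add a b ha hb =>
      obtain ⟨p, hp⟩ := ha
      obtain ⟨q, hq⟩ := hb
      exact ⟨p + q, by rw [map_add, map_add, hp, hq]⟩
    | tmul t s =>
      obtain ⟨p, rfl⟩ := G.toExtension.algebraMap_surjective s
      refine ⟨MvPolynomial.C t * MvPolynomial.map (algebraMap A A') p, ?_⟩
      rw [map_mul, MvPolynomial.aeval_C, MvPolynomial.aeval_map_algebraMap, Algebra.IsPushout.equiv_tmul]
      congr 1
      refine Eq.trans ?_ ((MvPolynomial.aeval_algebraMap_apply (B := B') G.val p).trans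
        (congrArg (algebraMap B B') ?_))
      · rfl
      · exact (G.algebraMap_apply p).symm
  obtain ⟨_, _⟩ : Module.Finite B' G'.toExtension.Cotangent ∧ Module.Projective B' G'.toExtension.Cotangent := by
    haveI : Module.Finite B' G'.toExtension.CotangentSpace := Module.Finite.of_basis G'.cotangentSpaceBasis
    exact finite_projective_of (G'.defaultHom H).toExtensionHom (H.defaultHom G').toExtensionHom
  let s := (NLCx.sameVarsHom G G' fun _ => rfl).toExtensionHom
  let Φ := (Extension.Cotangent.map s).liftBaseChange B'
  have hΦ : Function.Surjective Φ :=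
    NLBCLib.cotangent_surjective s _ (NLBCLib.ringEquiv_tmul G G' fun _ => rfl)
  obtain ⟨l, hl⟩ := Φ.exists_rightInverse_of_surjective (LinearMap.range_eq_top.2 hΦ)
  let pr : B' ⊗[B] G.toExtension.Cotangent →ₗ[B'] LinearMap.ker Φ :=
    (LinearMap.id - l ∘ₗ Φ).codRestrict _ fun x => by
      show Φ (x - l (Φ x)) = 0
      rw [map_sub, show Φ (l (Φ x)) = Φ x from LinearMap.congr_fun hl (Φ x), sub_self]
  have hpr : pr ∘ₗ (LinearMap.ker Φ).subtype = LinearMap.id := LinearMap.ext fun x => Subtype.ext (by
    show (x : B' ⊗[B] G.toExtension.Cotangent) - l (Φ x) = x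
    rw [show Φ (x : B' ⊗[B] G.toExtension.Cotangent) = 0 from x.2, map_zero, sub_zero])
  haveI : Module.Projective B' (LinearMap.ker Φ) := Module.Projective.of_split _ pr hpr
  haveI : Module.Finite B' (LinearMap.ker Φ) :=
    Module.Finite.of_surjective pr fun x => ⟨x.1, LinearMap.congr_fun hpr x⟩
  let φ := (G.defaultHom (Generators.self A B)).toExtensionHom
  let ψ := ((Generators.self A B).defaultHom G).toExtensionHom
  let η := (G'.defaultHom (Generators.self A' B')).toExtensionHom
  let η' := ((Generators.self A' B').defaultHom G').toExtensionHom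
  let d := ((Algebra.Generators.self A B).defaultHom (Algebra.Generators.self A' B')).toExtensionHom
  have hd : ∀ x : LinearMap.ker Φ, G.toExtension.cotangentComplex.baseChange B' (x : B' ⊗[B] G.toExtension.Cotangent) = 0 := by
    intro x
    refine (NLBCLib.bijective_cotangentSpace G G' fun _ => rfl).1 (Eq.trans ?_ (map_zero _).symm)
    have key : G'.toExtension.cotangentComplex ∘ₗ Φ =
        (Extension.CotangentSpace.map s).liftBaseChange B' ∘ₗ G.toExtension.cotangentComplex.baseChange B' := by
      refine TensorProduct.AlgebraTensorModule.ext fun t w => ?_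
      simpa [Φ] using congrArg (t • ·) (Extension.CotangentSpace.map_cotangentComplex s w).symm
    refine (LinearMap.congr_fun key _).symm.trans ?_
    rw [LinearMap.comp_apply, show Φ (x : B' ⊗[B] G.toExtension.Cotangent) = 0 from x.2, map_zero]
  let α : LinearMap.ker Φ →ₗ[B'] LinearMap.ker (NLCx.bcH1Map d) :=
    LinearMap.codRestrict _ (LinearMap.codRestrict (NLCx.bcH1 (Generators.self A B).toExtension B')
      ((Extension.Cotangent.map φ).baseChange B' ∘ₗ (LinearMap.ker Φ).subtype) fun x => by
        show (Generators.self A B).toExtension.cotangentComplex.baseChange B' _ = 0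
        rw [LinearMap.comp_apply, comm_baseChange, Submodule.subtype_apply, hd x, map_zero])
      fun x => by
        refine Subtype.ext ?_
        show (Extension.Cotangent.map d).liftBaseChange B' ((Extension.Cotangent.map φ).baseChange B' x.1) = 0
        rw [lift_baseChange, lift_eq (d.comp φ) (η.comp s) _ (hd x), ← map_lift,
          show (Extension.Cotangent.map s).liftBaseChange B' x.1 = 0 from x.2, map_zero]
  have hα : Function.Bijective α := by
    refine ⟨fun x y hxy => Subtype.ext ?_, fun ⟨⟨y, hy⟩, hy'⟩ => ?_⟩
    · rw [← baseChange_eq φ ψ x.1 (hd x), ← baseChange_eq φ ψ y.1 (hd y)]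
      exact congrArg (fun z => (Extension.Cotangent.map ψ).baseChange B' z.1.1) hxy
    · have hy0 : (Generators.self A B).toExtension.cotangentComplex.baseChange B' y = 0 := hy
      have hx0 : G.toExtension.cotangentComplex.baseChange B' ((Extension.Cotangent.map ψ).baseChange B' y) = 0 := by
        rw [comm_baseChange, hy0, map_zero]
      refine ⟨⟨(Extension.Cotangent.map ψ).baseChange B' y, ?_⟩, Subtype.ext (Subtype.ext (baseChange_eq ψ φ y hy0))⟩
      show (Extension.Cotangent.map s).liftBaseChange B' _ = 0
      rw [lift_baseChange, lift_eq (s.comp ψ) (η'.comp d) y hy0, ← map_lift,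
        show (Extension.Cotangent.map d).liftBaseChange B' y = 0 from congrArg Subtype.val hy', map_zero]
  let e := LinearEquiv.ofBijective α hα
  exact ⟨Module.Finite.equiv e, Module.Projective.of_equiv e⟩

end NLKerLib
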